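import Groth.Agent.TorDimLib.FlatVanish
import Groth.Agent.AbsFlat.Basic
import Mathlib

/-! Weak dimension ascends along weakly étale algebras. -/

set_option autoImplicit false
set_option linter.style.haveILetI false
universe u

open CategoryTheory TensorProduct

namespace Groth.Agent.WEtTorDimLib

open TorDimLib

/-- Dimension shift in the other direction along a short exact sequence with flat middle term. -/
theorem exactAtSucc_shift_up {A : Type u} [CommRing A] {K F Q : Type u} [AddCommGroup K] [Module A K]
    [AddCommGroup F] [Module A F] [AddCommGroup Q] [Module A Q] [Module.Flat A F] (ι : K →ₗ[A] F) (π : F →ₗ[A] Q)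
    (hι : Function.Injective ι) (hex : Function.Exact ι π) (hπ : Function.Surjective π) {Z : ModuleCat.{u} A}
    (P : ProjectiveResolution Z) (p : ℕ) (h : ExactAtSucc K P p) : ExactAtSucc Q P (p + 1) := by
  intro z
  refine ⟨fun hz => ?_, ?_⟩
  · let D2 := (P.complex.d (p + 2) (p + 1)).hom
    let D3 := (P.complex.d (p + 3) (p + 2)).hom
    obtain ⟨w, rfl⟩ := LinearMap.rTensor_surjective (P.complex.X (p + 2)) hπ z
    rw [comm_apply] at hz
    obtain ⟨u', hu⟩ := (rTensor_exact (P.complex.X (p + 1)) hex hπ (D2.lTensor F w)).1 hz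
    have := flat_X P p
    have h2 : (P.complex.d (p + 1) p).hom.lTensor K u' = 0 :=
      (injective_iff_map_eq_zero (ι.rTensor (P.complex.X p))).1
        (Module.Flat.rTensor_preserves_injective_linearMap ι hι) _ (by
          rw [← comm_apply, hu]; exact d_d P F _ _ _ w)
    obtain ⟨v, hv⟩ := (h u').1 h2
    have hF : Function.Exact (D3.lTensor F) (D2.lTensor F) :=
      Module.Flat.lTensor_exact F ((ShortComplex.ShortExact.moduleCat_exact_iff_function_exact _).1 (P.exact_succ (p + 1)))
    obtain ⟨s, hs⟩ := (hF (w - ι.rTensor _ v)).1 (by rw [map_sub, comm_apply, hv, hu, sub_self])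
    refine ⟨π.rTensor _ s, ?_⟩
    rw [comm_apply, hs, map_sub, ← LinearMap.comp_apply (π.rTensor _) (ι.rTensor _), ← LinearMap.rTensor_comp,
      hex.linearMap_comp_eq_zero]
    simp
  · rintro ⟨w, rfl⟩
    exact d_d P Q _ _ _ w

theorem exactAtSucc_ascend {A B : Type u} [CommRing A] [CommRing B] [Algebra A B] [Algebra.WeaklyEtale A B]
    (d : ℕ) : ∀ (N : Type u) [AddCommGroup N] [Module B N] [Module A N] [IsScalarTower A B N],
      (∀ (X : Type u) [AddCommGroup X] [Module A X] (P : ProjectiveResolution (ModuleCat.of A X)) (p : ℕ),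
        d ≤ p → ExactAtSucc N P p) →
      ∀ (Z : ModuleCat.{u} B) (P : ProjectiveResolution Z) (p : ℕ), d ≤ p → ExactAtSucc N P p := by
  induction d with
  | zero =>
    intro N _ _ _ _ h Z P p _
    haveI : Module.Flat A N := flat_of_exactAtSucc fun X _ _ P => h X P 0 le_rfl
    haveI : Module.Flat B N := AbsFlat.flat_of_flat_mul (Algebra.WeaklyEtale.flat_lmul' A B) N
    exact exactAtSucc_of_flat_left P p
  | succ d ih =>
    intro N _ _ _ _ h Z P p hp
    obtain ⟨q, rfl⟩ : ∃ q, p = q + 1 := ⟨p - 1, by omega⟩
    let π : (N →₀ B) →ₗ[B] N := Finsupp.linearCombination B id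
    have hπ : Function.Surjective π := Finsupp.linearCombination_id_surjective B N
    haveI : Module.Flat A (N →₀ B) := by
      classical
      exact Module.Flat.of_linearEquiv (finsuppLEquivDirectSum A B N)
    refine exactAtSucc_shift_up (LinearMap.ker π).subtype π Subtype.val_injective
      (LinearMap.exact_subtype_ker_map π) hπ P q (ih (LinearMap.ker π) (fun X _ _ P' p' hp' => ?_) Z P q (by omega))
    exact exactAtSucc_shift ((LinearMap.ker π).subtype.restrictScalars A) (π.restrictScalars A) Subtype.val_injective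
      (LinearMap.exact_subtype_ker_map π) hπ P' p' (h X P' (p' + 1) (by omega))

theorem hasTorDimLE_ascend (A B : Type u) [CommRing A] [CommRing B] [Algebra A B] [Algebra.WeaklyEtale A B] (d : ℕ)
    (hA : ∀ (M : Type u) [AddCommGroup M] [Module A M], DRing.HasTorDimLE A d M)
    (N : Type u) [AddCommGroup N] [Module B N] : DRing.HasTorDimLE B d N := by
  intro X _ _ p hp
  obtain ⟨q, rfl⟩ : ∃ q, p = q + 1 := ⟨p - 1, by omega⟩
  letI : Module A N := Module.compHom N (algebraMap A B)
  haveI : IsScalarTower A B N := ⟨fun a b m => by rw [Algebra.smul_def, mul_smul]; rfl⟩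
  obtain ⟨P⟩ := (inferInstance : HasProjectiveResolution (ModuleCat.of B X)).out
  refine subsingleton_tor_of_exactAtSucc P q (exactAtSucc_ascend (A := A) d N (fun X' _ _ P' p' hp' => ?_) _ P q (by omega))
  exact exactAtSucc_of_subsingleton_tor P' p' (hA N X' (p' + 1) (by omega))

end Groth.Agent.WEtTorDimLib
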